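import Cfsg.Agent.Lib.SylClasses.Standard
import Mathlib.GroupTheory.Perm.Cycle.Type
import Mathlib.GroupTheory.Perm.Sign
import Mathlib.GroupTheory.SpecificGroups.Alternating

/-!
Signed permutations acting on the doubled points, extended by a transposition of `r` further points along the parity,
and the centraliser of the all-flip among the even permutations.
-/

set_option autoImplicit false
set_option linter.style.haveILetI false

namespace Cfsg.Agent.SylClasses.Model

variable {ι : Type*}

/-- The action on the doubled points. -/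
def act (a : W ι) : Equiv.Perm (ι × ZMod 2) where
  toFun q := (a.p q.1, q.2 + a.v (a.p q.1))
  invFun q := (a.p.symm q.1, q.2 + a.v q.1)
  left_inv q := by simp [add_assoc, CharTwo.add_self_eq_zero]
  right_inv q := by simp [add_assoc, CharTwo.add_self_eq_zero]

theorem act_apply (a : W ι) (q : ι × ZMod 2) : act a q = (a.p q.1, q.2 + a.v (a.p q.1)) := rfl

/-- The action as a homomorphism. -/
def actHom : W ι →* Equiv.Perm (ι × ZMod 2) where
  toFun := act
  map_one' := Equiv.ext fun q => by simp [act_apply]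
  map_mul' a b := Equiv.ext fun q => by
    simp [act_apply, Equiv.Perm.mul_apply, add_assoc, add_comm (a.v _)]

theorem act_injective : Function.Injective (act (ι := ι)) := by
  intro a b h
  have hp : a.p = b.p := Equiv.ext fun i => congrArg Prod.fst (congrFun (congrArg (⇑) h) (i, 0))
  ext1
  · funext j
    have := congrArg Prod.snd (congrFun (congrArg (⇑) h) (a.p.symm j, 0))
    simpa [act_apply, ← hp] using this
  · exact hp

variable [Fintype ι] [DecidableEq ι]

/-- Minus one to a power. -/
def sgnBit (b : ZMod 2) : ℤˣ := if b = 0 then 1 else -1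

theorem sgnBit_add : ∀ a b, sgnBit (a + b) = sgnBit a * sgnBit b := by decide

theorem sgnBit_sum {κ : Type*} (s : Finset κ) (f : κ → ZMod 2) :
    sgnBit (∑ i ∈ s, f i) = ∏ i ∈ s, sgnBit (f i) := by
  classical
  induction s using Finset.induction with
  | empty => rfl
  | insert a s ha ih => rw [Finset.sum_insert ha, Finset.prod_insert ha, sgnBit_add, ih]

theorem sign_add (b : ZMod 2) : Equiv.Perm.sign (Equiv.addRight b : Equiv.Perm (ZMod 2)) = sgnBit b := by
  revert b; decide

/-- The sign on the doubled points is the flip parity. -/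
theorem sign_act (a : W ι) : Equiv.Perm.sign (act a) = sgnBit (W.par a) := by
  have e : act a = Equiv.prodCongrRight (fun i => (Equiv.addRight (a.v i) : Equiv.Perm (ZMod 2))) *
      Equiv.prodCongrLeft (fun _ : ZMod 2 => a.p) := Equiv.ext fun q => rfl
  rw [e, map_mul, Equiv.Perm.sign_prodCongrRight, Equiv.Perm.sign_prodCongrLeft]
  simp only [sign_add, Finset.prod_const, Finset.card_univ, ZMod.card, ← sgnBit_sum]
  rw [pow_two, Int.units_mul_self, mul_one]
  rfl

variable {r : ℕ}

/-- A transposition of the further points along the parity. -/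
def tau (hr : 2 ≤ r) (b : ZMod 2) : Equiv.Perm (Fin r) :=
  if b = 0 then 1 else Equiv.swap ⟨0, by omega⟩ ⟨1, by omega⟩

theorem tau_add (hr : 2 ≤ r) (a b : ZMod 2) : tau hr (a + b) = tau hr a * tau hr b := by
  have two : ∀ x : ZMod 2, x = 0 ∨ x = 1 := by decide
  rcases two a with rfl | rfl <;> rcases two b with rfl | rfl <;>
    simp [tau, show (1 + 1 : ZMod 2) = 0 from rfl]

theorem sign_tau (hr : 2 ≤ r) (b : ZMod 2) : Equiv.Perm.sign (tau hr b) = sgnBit b := by
  have two : ∀ x : ZMod 2, x = 0 ∨ x = 1 := by decide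
  rcases two b with rfl | rfl
  · simp [tau, sgnBit]
  · simp [tau, sgnBit, Equiv.Perm.sign_swap]

/-- The embedding among the permutations of all points. -/
def embX (hr : 2 ≤ r) : W ι →* Equiv.Perm ((ι × ZMod 2) ⊕ Fin r) where
  toFun a := Equiv.sumCongr (act a) (tau hr (W.par a))
  map_one' := by
    rw [show act (1 : W ι) = 1 from map_one actHom, show W.par (1 : W ι) = 0 by simp [W.par]]
    exact Equiv.ext fun q => by cases q <;> simp [tau]
  map_mul' a b := by
    rw [show act (a * b) = act a * act b from map_mul actHom a b, W.par_mul, tau_add]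
    exact Equiv.ext fun q => by cases q <;> rfl

theorem embX_apply (hr : 2 ≤ r) (a : W ι) : embX hr a = Equiv.sumCongr (act a) (tau hr (W.par a)) := rfl

theorem sign_embX (hr : 2 ≤ r) (a : W ι) : Equiv.Perm.sign (embX hr a) = 1 := by
  rw [embX_apply, Equiv.Perm.sign_sumCongr, sign_act, sign_tau, Int.units_mul_self]

theorem par_zz (h : Even (Fintype.card ι)) : W.par (W.zz : W ι) = 0 := by
  simp [W.par, W.zz, h.natCast_zmod_two]

/-- The all-flip. -/
def beta (ι : Type*) [Fintype ι] [DecidableEq ι] (r : ℕ) : Equiv.Perm ((ι × ZMod 2) ⊕ Fin r) :=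
  Equiv.sumCongr (act W.zz) 1

theorem beta_inl (i : ι) (c : ZMod 2) : beta ι r (Sum.inl (i, c)) = Sum.inl (i, c + 1) := rfl

theorem beta_inr (x : Fin r) : beta ι r (Sum.inr x) = Sum.inr x := rfl

theorem embX_zz (hr : 2 ≤ r) (h : Even (Fintype.card ι)) : embX hr (W.zz : W ι) = beta ι r := by
  rw [embX_apply, par_zz h]
  simp [tau, beta]

theorem embX_comm (hr : 2 ≤ r) (h : Even (Fintype.card ι)) (a : W ι) :
    embX hr a * beta ι r = beta ι r * embX hr a := by
  rw [← embX_zz hr h, ← map_mul, W.zz_central, map_mul]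

theorem support_beta : (beta ι r).support.card = 2 * Fintype.card ι := by
  have : (beta ι r).support = (Finset.univ : Finset (ι × ZMod 2)).map Function.Embedding.inl := by
    ext q
    rcases q with ⟨i, c⟩ | x
    · simp [beta_inl]
    · simp [beta_inr]
  rw [this, Finset.card_map, Finset.card_univ, Fintype.card_prod, ZMod.card, mul_comm]

theorem beta_sq : beta ι r * beta ι r = 1 := by
  refine Equiv.ext fun q => ?_
  rcases q with ⟨i, c⟩ | x
  · simp [beta_inl, add_assoc, CharTwo.add_self_eq_zero]
  · simp [beta_inr]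

/-- A permutation commuting with the all-flip splits. -/
theorem split {σ : Equiv.Perm ((ι × ZMod 2) ⊕ Fin r)} (h : σ * beta ι r = beta ι r * σ) :
    ∃ a : W ι, ∃ ρ : Equiv.Perm (Fin r), σ = Equiv.sumCongr (act a) ρ := by
  have hc : ∀ q, σ (beta ι r q) = beta ι r (σ q) := fun q => congrFun (congrArg (⇑) h) q
  have hs : ∀ q, σ.symm (beta ι r q) = beta ι r (σ.symm q) := fun q => by
    rw [Equiv.symm_apply_eq, hc, Equiv.apply_symm_apply]
  have hl : ∀ (f : Equiv.Perm ((ι × ZMod 2) ⊕ Fin r)), (∀ q, f (beta ι r q) = beta ι r (f q)) →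
      ∀ q : ι × ZMod 2, ∃ q', f (Sum.inl q) = Sum.inl q' := by
    intro f hf q
    rcases he : f (Sum.inl q) with q' | x
    · exact ⟨q', rfl⟩
    · have h1 := hf (Sum.inl q)
      rw [he, beta_inr, ← he] at h1
      have h2 := f.injective h1
      obtain ⟨i, c⟩ := q
      rw [beta_inl] at h2
      simp at h2
  have hr : ∀ (f : Equiv.Perm ((ι × ZMod 2) ⊕ Fin r)), (∀ q, f (beta ι r q) = beta ι r (f q)) →
      ∀ x : Fin r, ∃ x', f (Sum.inr x) = Sum.inr x' := by
    intro f hf x
    rcases he : f (Sum.inr x) with ⟨i, c⟩ | x'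
    · have h1 := hf (Sum.inr x)
      rw [beta_inr, he, beta_inl] at h1
      simp at h1
    · exact ⟨x', rfl⟩
  choose L hL using hl σ hc
  choose L' hL' using hl σ.symm hs
  choose R hR using hr σ hc
  choose R' hR' using hr σ.symm hs
  have LL' : ∀ q, L (L' q) = q := fun q => Sum.inl_injective (by rw [← hL, ← hL', Equiv.apply_symm_apply])
  have L'L : ∀ q, L' (L q) = q := fun q => Sum.inl_injective (by rw [← hL', ← hL, Equiv.symm_apply_apply])
  have RR' : ∀ q, R (R' q) = q := fun q => Sum.inr_injective (by rw [← hR, ← hR', Equiv.apply_symm_apply])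
  have R'R : ∀ q, R' (R q) = q := fun q => Sum.inr_injective (by rw [← hR', ← hR, Equiv.symm_apply_apply])
  have hstep : ∀ i c, L (i, c + 1) = ((L (i, c)).1, (L (i, c)).2 + 1) := fun i c =>
    Sum.inl_injective (by rw [← hL, ← beta_inl, hc, hL, ← beta_inl])
  have hstep' : ∀ i c, L' (i, c + 1) = ((L' (i, c)).1, (L' (i, c)).2 + 1) := fun i c =>
    Sum.inl_injective (by rw [← hL', ← beta_inl, hs, hL', ← beta_inl])
  have two : ∀ x : ZMod 2, x = 0 ∨ x = 1 := by decide
  have hfst : ∀ i c, (L (i, c)).1 = (L (i, 0)).1 := fun i c => by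
    rcases two c with rfl | rfl
    · rfl
    · have h1 := hstep i 0
      rw [zero_add] at h1
      rw [h1]
  have hfst' : ∀ i c, (L' (i, c)).1 = (L' (i, 0)).1 := fun i c => by
    rcases two c with rfl | rfl
    · rfl
    · have h1 := hstep' i 0
      rw [zero_add] at h1
      rw [h1]
  let p : Equiv.Perm ι :=
    { toFun := fun i => (L (i, 0)).1
      invFun := fun i => (L' (i, 0)).1
      left_inv := fun i => by
        show (L' ((L (i, 0)).1, 0)).1 = i
        rw [← hfst' (L (i, 0)).1 (L (i, 0)).2, L'L]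
      right_inv := fun i => by
        show (L ((L' (i, 0)).1, 0)).1 = i
        rw [← hfst (L' (i, 0)).1 (L' (i, 0)).2, LL'] }
  refine ⟨⟨fun j => (L (p.symm j, 0)).2, p⟩, ⟨R, R', R'R, RR'⟩, Equiv.ext fun q => ?_⟩
  rcases q with ⟨i, c⟩ | x
  · rw [hL]
    refine congrArg Sum.inl ?_
    show L (i, c) = (p i, c + (L (p.symm (p i), 0)).2)
    rw [Equiv.symm_apply_apply]
    rcases two c with rfl | rfl
    · rw [zero_add]; exact Prod.ext rfl rfl
    · rw [add_comm]; exact hstep i 0
  · rw [hR]; rfl

/-- An involution moving as many points as the all-flip becomes it after renaming. -/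
theorem exists_equiv {m : ℕ} {σ : Equiv.Perm (Fin m)} (hσ : orderOf σ = 2)
    (hsupp : σ.support.card = 2 * Fintype.card ι) (hm : m = 2 * Fintype.card ι + r) :
    ∃ e : Fin m ≃ (ι × ZMod 2) ⊕ Fin r, e.permCongr σ = beta ι r := by
  haveI : Fact (Nat.Prime 2) := ⟨Nat.prime_two⟩
  obtain ⟨e0⟩ : Nonempty (Fin m ≃ (ι × ZMod 2) ⊕ Fin r) :=
    ⟨Fintype.equivOfCardEq (by simp [hm, mul_comm])⟩
  have hne : beta ι r ≠ 1 := fun e => by
    have h := congrArg (fun f : Equiv.Perm ((ι × ZMod 2) ⊕ Fin r) => f.support.card) e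
    simp only [support_beta, Equiv.Perm.support_one, Finset.card_empty] at h
    rw [← hsupp, Finset.card_eq_zero, Equiv.Perm.support_eq_empty_iff] at h
    rw [h, orderOf_one] at hσ
    omega
  have hb : orderOf (beta ι r) = 2 := orderOf_eq_prime (by rw [pow_two]; exact beta_sq) hne
  have hp : orderOf (e0.permCongr σ) = 2 := by
    exact (e0.permCongrHom.orderOf_eq σ).trans hσ
  have hs : (e0.permCongr σ).support.card = σ.support.card := by
    refine (Finset.card_bij (fun x _ => e0 x) (fun x hx => ?_) (fun x _ y _ h => e0.injective h) fun y hy =>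
      ⟨e0.symm y, ?_, e0.apply_symm_apply y⟩).symm
    · simpa [Equiv.permCongr_apply] using hx
    · rw [Equiv.Perm.mem_support] at hy ⊢
      intro h
      exact hy (by rw [Equiv.permCongr_apply, h, Equiv.apply_symm_apply])
  obtain ⟨a, ha⟩ := Equiv.Perm.cycleType_prime_order (hb ▸ Nat.prime_two)
  obtain ⟨b, hb'⟩ := Equiv.Perm.cycleType_prime_order (hp ▸ Nat.prime_two)
  have hca : (a + 1) * 2 = 2 * Fintype.card ι := by
    rw [← support_beta (ι := ι) (r := r), ← Equiv.Perm.sum_cycleType, ha, Multiset.sum_replicate, hb, smul_eq_mul]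
  have hcb : (b + 1) * 2 = 2 * Fintype.card ι := by
    rw [← hsupp, ← hs, ← Equiv.Perm.sum_cycleType, hb', Multiset.sum_replicate, hp, smul_eq_mul]
  have hct : (e0.permCongr σ).cycleType = (beta ι r).cycleType := by
    rw [ha, hb', hb, hp, show b = a by omega]
  obtain ⟨g, hg⟩ := isConj_iff.1 (Equiv.Perm.isConj_iff_cycleType_eq.2 hct)
  exact ⟨e0.trans g, Equiv.ext fun q => by rw [← hg]; rfl⟩

end Cfsg.Agent.SylClasses.Model
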