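import Cfsg.Agent.Lib.SylClasses.Model.Points
import Cfsg.Agent.Lib.SylClasses.Matching
import Cfsg.Agent.Lib.SylClasses.ExtremalTransfer

/-!
The hypotheses of the theorem give the situation, and the smallest case.
-/

set_option autoImplicit false
set_option linter.style.haveILetI false

namespace Cfsg.Agent.SylClasses.Model

universe u

variable {ι : Type*} [Fintype ι] [DecidableEq ι] {r : ℕ}

/-- The even permutations commuting with the all-flip. -/
def CX (ι : Type*) [Fintype ι] [DecidableEq ι] (r : ℕ) : Subgroup (Equiv.Perm ((ι × ZMod 2) ⊕ Fin r)) :=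
  Subgroup.centralizer {beta ι r} ⊓ (Equiv.Perm.sign).ker

theorem mem_CX {σ : Equiv.Perm ((ι × ZMod 2) ⊕ Fin r)} :
    σ ∈ CX ι r ↔ σ * beta ι r = beta ι r * σ ∧ Equiv.Perm.sign σ = 1 := by
  rw [CX, Subgroup.mem_inf, Subgroup.mem_centralizer_singleton_iff, MonoidHom.mem_ker]

theorem sumCongr_inj {a b : W ι} {p q : Equiv.Perm (Fin r)}
    (h : Equiv.sumCongr (act a) p = Equiv.sumCongr (act b) q) : a = b ∧ p = q := by
  refine ⟨act_injective (Equiv.ext fun x => ?_), Equiv.ext fun x => ?_⟩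
  · exact Sum.inl_injective (congrFun (congrArg (⇑) h) (Sum.inl x))
  · exact Sum.inr_injective (congrFun (congrArg (⇑) h) (Sum.inr x))

theorem split' (g : CX ι r) : ∃ a : W ι, ∃ ρ, g.1 = Equiv.sumCongr (act a) ρ := split (mem_CX.1 g.2).1

/-- The signed permutation of an element. -/
noncomputable def projX : CX ι r →* W ι where
  toFun g := (split' g).choose
  map_one' := by
    obtain ⟨ρ, e⟩ := (split' (1 : CX ι r)).choose_spec
    refine (sumCongr_inj (b := 1) (q := 1) (e.symm.trans ?_)).1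
    rw [show act (1 : W ι) = 1 from map_one actHom]
    exact Equiv.ext fun q => by cases q <;> rfl
  map_mul' g h := by
    obtain ⟨ρ, e⟩ := (split' (g * h)).choose_spec
    obtain ⟨ρ1, e1⟩ := (split' g).choose_spec
    obtain ⟨ρ2, e2⟩ := (split' h).choose_spec
    refine (sumCongr_inj (q := ρ1 * ρ2) (e.symm.trans ((congrArg₂ (· * ·) e1 e2).trans ?_))).1
    rw [show act ((split' g).choose * (split' h).choose) =
      act (split' g).choose * act (split' h).choose from map_mul actHom _ _]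
    exact Equiv.ext fun q => by cases q <;> rfl

theorem projX_eq (g : CX ι r) : ∃ ρ, g.1 = Equiv.sumCongr (act (projX g)) ρ := (split' g).choose_spec

/-- The embedding into the centraliser. -/
def embC (hr : 2 ≤ r) (h : Even (Fintype.card ι)) : W ι →* CX ι r :=
  (embX hr).codRestrict _ fun a => mem_CX.2 ⟨embX_comm hr h a, sign_embX hr a⟩

theorem projX_embC (hr : 2 ≤ r) (h : Even (Fintype.card ι)) (a : W ι) : projX (embC hr h a) = a := by
  obtain ⟨ρ, e⟩ := projX_eq (embC hr h a)
  exact (sumCongr_inj ((embX_apply hr a).symm.trans e)).1.symm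

theorem ker_shape {g : CX ι r} (hg : projX g = 1) :
    ∃ ρ : Equiv.Perm (Fin r), Equiv.Perm.sign ρ = 1 ∧ g.1 = Equiv.sumCongr (act (1 : W ι)) ρ := by
  obtain ⟨ρ, e⟩ := projX_eq g
  rw [hg] at e
  refine ⟨ρ, ?_, e⟩
  have hs := (mem_CX.1 g.2).2
  rwa [e, Equiv.Perm.sign_sumCongr, sign_act, show W.par (1 : W ι) = 0 by simp [W.par],
    show sgnBit 0 = 1 from rfl, one_mul] at hs

theorem card_ker (hr : r = 2 ∨ r = 3) : Odd (Nat.card (projX (ι := ι) (r := r)).ker) := by
  have e : Nat.card (projX (ι := ι) (r := r)).ker = Nat.card {ρ : Equiv.Perm (Fin r) // Equiv.Perm.sign ρ = 1} := by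
    refine (Nat.card_congr (Equiv.ofBijective (fun ρ : {ρ : Equiv.Perm (Fin r) // Equiv.Perm.sign ρ = 1} =>
      (⟨⟨Equiv.sumCongr (act (1 : W ι)) ρ.1, mem_CX.2 ⟨?_, ?_⟩⟩, ?_⟩ : (projX (ι := ι) (r := r)).ker)) ⟨?_, ?_⟩)).symm
    · rw [show act (1 : W ι) = 1 from map_one actHom]
      exact Equiv.ext fun q => by cases q <;> rfl
    · rw [Equiv.Perm.sign_sumCongr, show act (1 : W ι) = 1 from map_one actHom, map_one, one_mul]
      exact ρ.2
    · show projX _ = 1
      obtain ⟨ρ', e⟩ := projX_eq (⟨Equiv.sumCongr (act (1 : W ι)) ρ.1, _⟩ : CX ι r)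
      exact (sumCongr_inj e).1.symm
    · intro a b hab
      exact Subtype.ext (sumCongr_inj (congrArg (fun x => ((x : (projX (ι := ι) (r := r)).ker) : CX ι r).1) hab)).2
    · rintro ⟨g, hg⟩
      obtain ⟨ρ, hρ, e⟩ := ker_shape hg
      exact ⟨⟨ρ, hρ⟩, Subtype.ext (Subtype.ext e.symm)⟩
  rw [e, Nat.card_eq_fintype_card, Nat.odd_iff]
  rcases hr with rfl | rfl <;> decide

theorem free (hr : r = 2 ∨ r = 3) (h : Even (Fintype.card ι)) {g : CX ι r} (hg : projX g = 1) (a : ι)
    (hc : Commute g (embC (by omega) h (W.fl (Pi.single a 1)))) : g = 1 := by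
  obtain ⟨ρ, hρ, e⟩ := ker_shape hg
  have hp : W.par (W.fl (Pi.single a (1 : ZMod 2))) = 1 := by simp [W.par]
  have hcomm : ρ * tau (r := r) (by omega) 1 = tau (r := r) (by omega) 1 * ρ := by
    have := congrArg Subtype.val hc.eq
    simp only [Subgroup.coe_mul, e, embC, MonoidHom.codRestrict_apply, embX_apply, hp] at this
    exact Equiv.ext fun x => Sum.inr_injective (congrFun (congrArg (⇑) this) (Sum.inr x))
  have key2 : ∀ x : Equiv.Perm (Fin 2), Equiv.Perm.sign x = 1 →
      x * Equiv.swap 0 1 = Equiv.swap 0 1 * x → x = 1 := by decide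
  have key3 : ∀ x : Equiv.Perm (Fin 3), Equiv.Perm.sign x = 1 →
      x * Equiv.swap 0 1 = Equiv.swap 0 1 * x → x = 1 := by decide
  have hρ1 : ρ = 1 := by
    rw [tau, if_neg one_ne_zero] at hcomm
    rcases hr with rfl | rfl
    · exact key2 ρ hρ hcomm
    · exact key3 ρ hρ hcomm
  subst hρ1
  refine Subtype.ext (e.trans ?_)
  rw [show act (1 : W ι) = 1 from map_one actHom]
  exact Equiv.ext fun q => by cases q <;> rfl

theorem central_eq (hr : r = 2 ∨ r = 3) (h : Even (Fintype.card ι)) [Nonempty ι] {g : CX ι r}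
    (hg : orderOf g = 2) (hc : ∀ x, x * g = g * x) : g.1 = beta ι r := by
  classical
  set b := embC (r := r) (by omega) h
  set a := projX g with ha
  have hca : ∀ w : W ι, w * a = a * w := fun w => by
    have := congrArg projX (hc (b w))
    rwa [map_mul, map_mul, projX_embC] at this
  have hmem : a ∈ W.std id (fun _ => rfl) := W.mem_std_of_comm fun w _ => (hca w).symm
  have hp : a.p = 1 := Equiv.ext fun i => (hmem.2 i).elim id id
  have hv : ∀ i j, a.v i = a.v j := fun i j => by
    have := congrFun (congrArg W.v (hca (W.pm (Equiv.swap i j)))) i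
    simp [hp, Equiv.Perm.one_def, Equiv.symm_swap] at this
    exact this.symm
  obtain ⟨i0⟩ := ‹Nonempty ι›
  have two : ∀ x : ZMod 2, x = 0 ∨ x = 1 := by decide
  have hacase : a = 1 ∨ a = W.zz := by
    rcases two (a.v i0) with h0 | h0
    · exact Or.inl (W.ext (funext fun i => (hv i i0).trans h0) hp)
    · exact Or.inr (W.ext (funext fun i => (hv i i0).trans h0) hp)
  have hk : g * (b a)⁻¹ = 1 := by
    refine free hr h ?_ i0 ?_
    · rw [map_mul, map_inv, projX_embC, ← ha, mul_inv_cancel]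
    · refine Commute.mul_left (hc _).symm (Commute.inv_left ?_)
      show _ * _ = _ * _
      rw [← map_mul, ← map_mul, hca]
  rw [mul_inv_eq_one] at hk
  rcases hacase with e | e <;> rw [e] at hk
  · rw [hk, map_one, orderOf_one] at hg; exact absurd hg (by norm_num)
  · rw [hk]; exact embX_zz _ h

/-- The hypotheses of the theorem in terms of signed permutations. -/
theorem exists_data {n : ℕ} (hn : 1 ≤ n) (hr : r = 2 ∨ r = 3)
    (α : ↥(alternatingGroup (Fin (4 * n + r)))) (hα : orderOf α = 2)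
    (hα4 : (α : Equiv.Perm (Fin (4 * n + r))).support.card = 4 * n)
    {G : Type u} [Group G] [Finite G] (t : G) (ht : orderOf t = 2) (S : Sylow 2 G) (htS : t ∈ (S : Subgroup G))
    (htZ : ∀ s ∈ (S : Subgroup G), s * t = t * s)
    (hiso : Nonempty (↥(Subgroup.centralizer ({t} : Set G)) ≃*
      ↥(Subgroup.centralizer ({α} : Set ↥(alternatingGroup (Fin (4 * n + r))))))) :
    ∃ emb : W (Fin (2 * n)) →* G, Function.Injective emb ∧ emb W.zz = t ∧
      ∃ proj : ↥(Subgroup.centralizer ({emb W.zz} : Set G)) →* W (Fin (2 * n)),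
        (∀ a h, proj ⟨emb a, h⟩ = a) ∧ Odd (Nat.card proj.ker) ∧
        (∀ g, proj g = 1 → ∀ a, Commute (g : G) (emb (W.fl (Pi.single a 1))) → (g : G) = 1) ∧
        ¬ 2 ∣ (Subgroup.centralizer ({emb W.zz} : Set G)).index := by
  haveI : Nonempty (Fin (2 * n)) := ⟨⟨0, by omega⟩⟩
  have heven : Even (Fintype.card (Fin (2 * n))) := by rw [Fintype.card_fin]; exact even_two_mul n
  have hr2 : 2 ≤ r := by omega
  obtain ⟨ψ⟩ := hiso
  have hα' : orderOf (α : Equiv.Perm (Fin (4 * n + r))) = 2 := by rw [Subgroup.orderOf_coe, hα]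
  obtain ⟨e, he⟩ := exists_equiv (ι := Fin (2 * n)) (r := r) hα' (by rw [hα4, Fintype.card_fin]; ring)
    (by rw [Fintype.card_fin]; ring)
  -- the centraliser in the alternating group, renamed
  have hmem : ∀ σ : Equiv.Perm (Fin (4 * n + r)), e.permCongrHom σ ∈ CX (Fin (2 * n)) r ↔
      σ * α = α * σ ∧ σ ∈ alternatingGroup (Fin (4 * n + r)) := fun σ => by
    rw [mem_CX, ← he, show e.permCongr (α : Equiv.Perm (Fin (4 * n + r))) = e.permCongrHom α from rfl,
      ← map_mul, ← map_mul, e.permCongrHom.injective.eq_iff, Equiv.Perm.mem_alternatingGroup,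
      show e.permCongrHom σ = e.permCongr σ from rfl, Equiv.Perm.sign_permCongr]
  let χ : ↥(Subgroup.centralizer ({α} : Set ↥(alternatingGroup (Fin (4 * n + r))))) ≃* CX (Fin (2 * n)) r :=
    MulEquiv.ofBijective
      (MonoidHom.codRestrict (e.permCongrHom.toMonoidHom.comp
        ((alternatingGroup (Fin (4 * n + r))).subtype.comp (Subgroup.subtype _))) (CX (Fin (2 * n)) r) (fun x =>
          (hmem _).2 ⟨congrArg Subtype.val (Subgroup.mem_centralizer_singleton_iff.1 x.2), x.1.2⟩))
      ⟨fun a b hab => Subtype.ext (Subtype.ext (e.permCongrHom.injective (congrArg Subtype.val hab))),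
        fun y => by
          obtain ⟨σ, hσ⟩ := e.permCongrHom.surjective y.1
          obtain ⟨h1, h2⟩ := (hmem σ).1 (by rw [hσ]; exact y.2)
          exact ⟨⟨⟨σ, h2⟩, Subgroup.mem_centralizer_singleton_iff.2 (Subtype.ext h1)⟩, Subtype.ext hσ⟩⟩
  set Φ := ψ.trans χ with hΦ
  set emb : W (Fin (2 * n)) →* G :=
    (Subgroup.subtype _).comp (Φ.symm.toMonoidHom.comp (embC (r := r) hr2 heven)) with hemb
  have hzz : emb W.zz = t := by
    have hT : Φ ⟨t, Subgroup.mem_centralizer_singleton_iff.2 rfl⟩ = embC hr2 heven W.zz := by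
      refine Subtype.ext ((central_eq hr heven ?_ fun x => ?_).trans (embX_zz hr2 heven).symm)
      · rw [Φ.orderOf_eq, ← Subgroup.orderOf_coe]; exact ht
      · obtain ⟨y, rfl⟩ := Φ.surjective x
        rw [← map_mul, ← map_mul]
        exact congrArg Φ (Subtype.ext (Subgroup.mem_centralizer_singleton_iff.1 y.2))
    show ((Φ.symm (embC hr2 heven W.zz) : ↥(Subgroup.centralizer ({t} : Set G))) : G) = t
    rw [← hT, MulEquiv.symm_apply_apply]
  have heq : Subgroup.centralizer ({emb W.zz} : Set G) = Subgroup.centralizer {t} := by rw [hzz]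
  refine ⟨emb, fun a b hab => ?_, hzz, (projX.comp Φ.toMonoidHom).comp (Subgroup.inclusion heq.le), ?_, ?_, ?_, ?_⟩
  · exact (Function.LeftInverse.injective (projX_embC hr2 heven)) (Φ.symm.injective (Subtype.ext hab))
  · intro a h
    show projX (Φ ⟨emb a, _⟩) = a
    rw [show (⟨emb a, _⟩ : ↥(Subgroup.centralizer ({t} : Set G))) = Φ.symm (embC hr2 heven a) from Subtype.ext rfl,
      MulEquiv.apply_symm_apply, projX_embC]
  · rw [Nat.card_congr (Equiv.subtypeEquiv
      (p := fun x => x ∈ ((projX.comp Φ.toMonoidHom).comp (Subgroup.inclusion heq.le)).ker)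
      (q := fun x => x ∈ (projX (ι := Fin (2 * n)) (r := r)).ker)
      ((MulEquiv.subgroupCongr heq).trans Φ).toEquiv fun x => Iff.rfl)]
    exact card_ker hr
  · intro g hg a hc
    have hc' : Commute (Φ (Subgroup.inclusion heq.le g)) (embC hr2 heven (W.fl (Pi.single a 1))) := by
      have e1 : Commute (Subgroup.inclusion heq.le g) (Φ.symm (embC hr2 heven (W.fl (Pi.single a 1)))) :=
        Subtype.ext hc
      simpa using e1.map Φ
    have h1 := congrArg Φ.symm (free hr heven hg a hc')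
    rw [map_one] at h1
    replace h1 := (Φ.symm_apply_apply _).symm.trans h1
    exact congrArg Subtype.val h1
  · rw [heq]
    intro hd
    refine S.not_dvd_index (hd.trans (Subgroup.index_dvd_of_le ?_))
    intro x hx
    exact Subgroup.mem_centralizer_singleton_iff.2 (htZ x hx)

/-- The situation for `n ≥ 2`. -/
theorem exists_setup {n : ℕ} (hn : 2 ≤ n) (hr : r = 2 ∨ r = 3)
    (α : ↥(alternatingGroup (Fin (4 * n + r)))) (hα : orderOf α = 2)
    (hα4 : (α : Equiv.Perm (Fin (4 * n + r))).support.card = 4 * n)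
    {G : Type u} [Group G] [Finite G] (h2 : ∀ H : Subgroup G, H.Normal → H.index ≠ 2)
    (t : G) (ht : orderOf t = 2) (S : Sylow 2 G) (htS : t ∈ (S : Subgroup G))
    (htZ : ∀ s ∈ (S : Subgroup G), s * t = t * s)
    (hiso : Nonempty (↥(Subgroup.centralizer ({t} : Set G)) ≃*
      ↥(Subgroup.centralizer ({α} : Set ↥(alternatingGroup (Fin (4 * n + r))))))) :
    ∃ s : Setup (Fin (2 * n)) G, s.n = n ∧ s.t = t := by
  obtain ⟨emb, hinj, hz, proj, h1, h3, h4, h5⟩ :=
    exists_data (by omega) hr α hα hα4 t ht S htS htZ hiso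
  exact ⟨⟨n, Fintype.card_fin _, hn, emb, hinj, proj, h1, h3, h4, h5, h2⟩, rfl, hz⟩

end Cfsg.Agent.SylClasses.Model
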