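import Cfsg.Agent.Lib.SylClasses.Model.Build

/-!
The smallest case: one class of involutions.
-/

set_option autoImplicit false
set_option linter.style.haveILetI false

namespace Cfsg.Agent.SylClasses.Model

universe u

/-- The theorem for `n = 1`. -/
theorem one_class {r : ℕ} (hr : r = 2 ∨ r = 3)
    (α : ↥(alternatingGroup (Fin (4 * 1 + r)))) (hα : orderOf α = 2)
    (hα4 : (α : Equiv.Perm (Fin (4 * 1 + r))).support.card = 4 * 1)
    {G : Type u} [Group G] [Finite G] (h2 : ∀ H : Subgroup G, H.Normal → H.index ≠ 2)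
    (t : G) (ht : orderOf t = 2) (S : Sylow 2 G) (htS : t ∈ (S : Subgroup G))
    (htZ : ∀ s ∈ (S : Subgroup G), s * t = t * s)
    (hiso : Nonempty (↥(Subgroup.centralizer ({t} : Set G)) ≃*
      ↥(Subgroup.centralizer ({α} : Set ↥(alternatingGroup (Fin (4 * 1 + r))))))) :
    Nat.card {c : ConjClasses G // ∃ x ∈ c.carrier, orderOf x = 2} = 1 := by
  haveI : Fact (Nat.Prime 2) := ⟨Nat.prime_two⟩
  obtain ⟨emb, hinj, hz, proj, hproj, hodd, -, hidx⟩ :=
    exists_data le_rfl hr α hα hα4 t ht S htS htZ hiso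
  have hWH : emb.range ≤ (Subgroup.centralizer ({emb W.zz} : Set G)) := by
    rintro _ ⟨a, rfl⟩
    exact Subgroup.mem_centralizer_singleton_iff.2 (by rw [← map_mul, W.zz_central, map_mul])
  have hcW : Nat.card (W (Fin (2 * 1))) = 8 := by
    rw [Nat.card_congr (W.equivProd _), Nat.card_prod, Nat.card_eq_fintype_card, Nat.card_eq_fintype_card,
      Fintype.card_fun, Fintype.card_perm]
    rfl
  have hP : IsPGroup 2 emb.range := IsPGroup.of_card (n := 3) (by
    rw [← Nat.card_congr (MonoidHom.ofInjective hinj).toEquiv, hcW]; rfl)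
  have hindex : ¬ 2 ∣ emb.range.index := by
    rw [← Subgroup.relIndex_mul_index hWH]
    refine Nat.prime_two.not_dvd_mul ?_ hidx
    have h := Subgroup.card_mul_index (emb.range.subgroupOf (Subgroup.centralizer ({emb W.zz} : Set G)))
    have hcH : Nat.card (Subgroup.centralizer ({emb W.zz} : Set G)) = Nat.card (W (Fin (2 * 1))) * Nat.card proj.ker := by
      have hsurj : Function.Surjective proj := fun a => ⟨_, hproj a (hWH ⟨a, rfl⟩)⟩
      have h1 := Subgroup.card_mul_index proj.ker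
      rw [Subgroup.index_ker, MonoidHom.range_eq_top.2 hsurj, Nat.card_congr Subgroup.topEquiv.toEquiv] at h1
      exact h1.symm.trans (mul_comm _ _)
    rw [Nat.card_congr (Subgroup.subgroupOfEquivOfLe hWH).toEquiv,
      ← Nat.card_congr (MonoidHom.ofInjective hinj).toEquiv, hcH, hcW] at h
    rw [Subgroup.relIndex, Nat.eq_of_mul_eq_mul_left (by norm_num) h]
    exact fun hd => Nat.not_even_iff_odd.2 hodd (even_iff_two_dvd.2 hd)
  let S' : Sylow 2 G := hP.toSylow hindex
  let χ : W (Fin (2 * 1)) →* Multiplicative (ZMod 2) := W.parHom * W.sgnHom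
  let T : Subgroup G := χ.ker.map emb
  have hTS : T ≤ (S' : Subgroup G) := Subgroup.map_le_range _ _
  have key : ∀ a : W (Fin (2 * 1)), (a * a = 1 ∧ a ≠ 1 ∧ χ a = 1 → a = W.zz) ∧ (χ a = 1 ∨ χ a = χ ⟨0, Equiv.swap 0 1⟩) := by
    decide +kernel
  have hT2 : T.relIndex (S' : Subgroup G) = 2 := by
    show (χ.ker.map emb).relIndex emb.range = 2
    rw [MonoidHom.range_eq_map, Subgroup.relIndex_map_map_of_injective _ _ hinj, Subgroup.relIndex_top_right,
      Subgroup.index_ker, MonoidHom.range_eq_top.2 ?_]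
    · rw [Nat.card_congr Subgroup.topEquiv.toEquiv]; simp
    · have hx : χ ⟨0, Equiv.swap 0 1⟩ = Multiplicative.ofAdd 1 := by decide +kernel
      intro b
      have two : ∀ x : ZMod 2, x = 0 ∨ x = 1 := by decide
      rcases two b.toAdd with h | h
      · exact ⟨1, by rw [map_one, ← ofAdd_toAdd b, h]; rfl⟩
      · exact ⟨_, hx.trans (by rw [← h, ofAdd_toAdd])⟩
  have main : ∀ x : G, orderOf x = 2 → IsConj t x := by
    intro x hx
    obtain ⟨Q, hQ⟩ := (show IsPGroup 2 (Subgroup.zpowers x) from IsPGroup.of_card (n := 1) (by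
      rw [Nat.card_zpowers, hx]; rfl)).exists_le_sylow
    obtain ⟨g, hg⟩ := MulAction.exists_smul_eq G Q S'
    have hgx : g * x * g⁻¹ ∈ (S' : Subgroup G) := by
      rw [← hg]
      exact Subgroup.smul_mem_pointwise_smul _ (MulAut.conj g) _ (hQ (Subgroup.mem_zpowers x))
    obtain ⟨a, ha⟩ := hgx
    have hxa : orderOf (emb a) = 2 := by rw [ha]; exact ((MulAut.conj g).orderOf_eq x).trans hx
    have hxc : IsConj (emb a) x := isConj_iff.2 ⟨g⁻¹, by rw [ha]; group⟩
    suffices h : IsConj t (emb a) from h.trans hxc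
    have elim : ∀ b, orderOf (emb b) = 2 → χ b = 1 → emb b = t := fun b hb hχ => by
      rw [orderOf_injective emb hinj] at hb
      have hb2 := pow_orderOf_eq_one b
      rw [hb, pow_two] at hb2
      rw [(key b).1 ⟨hb2, fun e => by simp [e] at hb, hχ⟩, hz]
    by_cases hχ : χ a = 1
    · rw [elim a hxa hχ]
    · have hxT : emb a ∉ T := by
        rintro ⟨b, hb, e⟩
        exact hχ (hinj e ▸ hb)
      obtain ⟨k, hk, -⟩ := exists_conj_mem h2 S' T hTS hT2 (by have := pow_orderOf_eq_one (emb a); rwa [hxa] at this)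
        ⟨a, rfl⟩ hxT
      obtain ⟨b, hb, e⟩ := hk
      refine isConj_iff.2 ⟨k⁻¹, ?_⟩
      rw [← elim b (by rw [e]; exact ((MulAut.conj k).orderOf_eq _).trans hxa) hb, e]
      group
  haveI : Subsingleton {c : ConjClasses G // ∃ x ∈ c.carrier, orderOf x = 2} := ⟨fun a b => by
    obtain ⟨ca, x, hx, hx2⟩ := a
    obtain ⟨cb, y, hy, hy2⟩ := b
    refine Subtype.ext ?_
    show ca = cb
    rw [← ConjClasses.mem_carrier_iff_mk_eq.1 hx, ← ConjClasses.mem_carrier_iff_mk_eq.1 hy,
      ConjClasses.mk_eq_mk_iff_isConj]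
    exact (main x hx2).symm.trans (main y hy2)⟩
  exact Nat.card_eq_one_iff_unique.2 ⟨inferInstance, ⟨⟨ConjClasses.mk t, t, ConjClasses.mem_carrier_mk, ht⟩⟩⟩

end Cfsg.Agent.SylClasses.Model
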